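import Cfsg.Agent.OddHalf.D8.SheetMap
import Cfsg.Agent.SignalizersComponents.Components

/-!
# The fact sheet of `K = ON`, and its transport along isomorphisms

`z` is an involution, `P = C_K(z)^∞ = C_K(v)` of type `4.L₃(4)`, `v² = z`, `E` elementary abelian of order 8 in `P`.
-/

set_option autoImplicit false

namespace Cfsg.Agent.OddHalf.D8.ON.Sheet

open Subgroup Cfsg Cfsg.Agent.OddHalf.D8.Sheet Cfsg.Agent.OddHalf.D8.SheetMap
open Cfsg.Agent.SignalizersComponents.Components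

/-- the facts on `K = ON` -/
structure SheetON {K : Type*} [Group K] (z v : K) (P E : Subgroup K) : Prop where
  basic : Basic z P
  vv : v * v = z
  Pv : ∀ x, x ∈ P ↔ x * v = v * x
  qs : IsQuasisimple P
  /-- `C_K(P) = ⟨v⟩` -/
  cenP : ∀ x, (∀ p ∈ P, x * p = p * x) → x ∈ zpowers v
  /-- automorphisms of `K` trivial on `P` are induced by `⟨v⟩` -/
  autP : ∀ α : MulAut K, (∀ x ∈ P, α x = x) → ∃ u ∈ zpowers v, α = MulAut.conj u
  zE : z ∈ E
  EP : E ≤ P
  ee : ∀ e ∈ E, e * e = 1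
  ec : ∀ e ∈ E, ∀ e' ∈ E, e * e' = e' * e
  /-- automorphisms of `P` act on `E` like elements of `C_K(z)` -/
  estar : ∀ β : MulAut P, ∃ n : K, n * z = z * n ∧ ∀ e (he : e ∈ E), (β ⟨e, EP he⟩ : K) = n * e * n⁻¹
  /-- `N_K(E)` is transitive on the involutions of `E` -/
  kk : ∀ e ∈ E, e ≠ 1 → ∃ k : K, k * z * k⁻¹ = e ∧ ∀ y ∈ E, k * y * k⁻¹ ∈ E
  /-- the relation of the elements of order 4 -/
  rel : ∃ k1 k2 e : K, (∀ y ∈ E, k1 * y * k1⁻¹ ∈ E) ∧ (∀ y ∈ E, k2 * y * k2⁻¹ ∈ E) ∧ e ∈ E ∧ e ≠ 1 ∧ e ≠ z ∧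
    e ≠ k1 * z * k1⁻¹ ∧ e ≠ z * (k1 * z * k1⁻¹) ∧ k2 * z * k2⁻¹ = z * (k1 * z * k1⁻¹) ∧
    v * (k1 * v * k1⁻¹) * (k2 * v * k2⁻¹)⁻¹ ∈ E

variable {K K' : Type*} [Group K] [Group K']

theorem mem_map_iff (e : K ≃* K') {L : Subgroup K} {x : K'} : x ∈ L.map e.toMonoidHom ↔ e.symm x ∈ L := by
  constructor
  · rintro ⟨y, hy, rfl⟩
    show e.symm (e y) ∈ L
    rw [e.symm_apply_apply]; exact hy
  · intro hx
    exact ⟨e.symm x, hx, e.apply_symm_apply x⟩

theorem mem_map_apply (e : K ≃* K') {L : Subgroup K} {x : K} : e x ∈ L.map e.toMonoidHom ↔ x ∈ L := by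
  rw [mem_map_iff, e.symm_apply_apply]

/-- transport of the basic sheet -/
theorem basic_map (e : K ≃* K') {z : K} {P : Subgroup K} (h : Basic z P) :
    Basic (e z) (P.map e.toMonoidHom) where
  zz := by rw [← map_mul, h.zz, map_one]
  z1 := fun e1 => h.z1 (e.injective (by rw [e1, map_one]))
  syl := syl_map e h.syl
  zP := ⟨z, h.zP, rfl⟩
  cen := by
    rintro _ ⟨x, hx, rfl⟩
    show e x * e z = e z * e x
    rw [← map_mul, h.cen x hx, map_mul]
  perf := by rw [← map_commutator, h.perf]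
  der := by
    obtain ⟨m, hm⟩ := h.der
    refine ⟨m, ?_⟩
    rw [centralizer_map e, dser_map]
    exact map_mono hm
  out := by rw [index_range e]; exact h.out
  schreier := schreier_map e h.schreier
  sylAut := by
    intro S hS α hα hα2
    let S' : Sylow 2 K :=
      { toSubgroup := (S : Subgroup K').map e.symm.toMonoidHom
        isPGroup' := S.isPGroup'.map _
        is_maximal' := by
          intro Q hQ hle
          have h1 : IsPGroup 2 (Q.map e.toMonoidHom) := hQ.map _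
          have h2 : (S : Subgroup K') ≤ Q.map e.toMonoidHom := by
            intro x hx
            exact ⟨e.symm x, hle ⟨x, hx, rfl⟩, e.apply_symm_apply x⟩
          have h3 := S.is_maximal' h1 h2
          apply le_antisymm _ hle
          intro y hy
          have h4 : e y ∈ (S : Subgroup K') := by
            rw [← h3]
            exact ⟨y, hy, rfl⟩
          exact ⟨e y, h4, e.symm_apply_apply y⟩ }
    have hmem : ∀ x, x ∈ S' ↔ e x ∈ S := by
      intro x
      constructor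
      · rintro ⟨y, hy, rfl⟩
        show e (e.symm y) ∈ S
        rw [e.apply_symm_apply]; exact hy
      · intro hx
        exact ⟨e x, hx, e.symm_apply_apply x⟩
    obtain ⟨k, hk⟩ := h.sylAut S' (by
      intro x hx
      apply e.injective
      rw [map_mul, map_mul]
      exact hS _ ((hmem x).1 hx)) ((MulAut.congr e).symm α) (isPGroup_congr_symm e hα) (by
      intro x hx
      show e.symm (α (e x)) = x
      rw [hα2 _ ((hmem x).1 hx), e.symm_apply_apply])
    refine ⟨e k, ?_⟩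
    have e2 : α = (MulAut.congr e) (MulAut.conj k) := by
      rw [← hk, MulEquiv.apply_symm_apply]
    rw [e2]
    ext y
    show e (k * e.symm y * k⁻¹) = e k * y * (e k)⁻¹
    rw [map_mul, map_mul, map_inv, e.apply_symm_apply]

/-- **transport of the sheet** -/
theorem sheetON_map (e : K ≃* K') {z v : K} {P E : Subgroup K} (h : SheetON z v P E) :
    SheetON (e z) (e v) (P.map e.toMonoidHom) (E.map e.toMonoidHom) where
  basic := basic_map e h.basic
  vv := by rw [← map_mul, h.vv]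
  Pv := by
    intro x
    obtain ⟨x, rfl⟩ := e.surjective x
    rw [mem_map_apply, h.Pv, ← map_mul, ← map_mul, e.injective.eq_iff]
  qs := isQuasisimple_of_mulEquiv (P.equivMapOfInjective e.toMonoidHom e.injective) h.qs
  cenP := by
    intro x hx
    obtain ⟨x, rfl⟩ := e.surjective x
    have h1 := h.cenP x (by
      intro p hp
      apply e.injective
      rw [map_mul, map_mul]
      exact hx _ ⟨p, hp, rfl⟩)
    obtain ⟨n, rfl⟩ := mem_zpowers_iff.1 h1
    rw [map_zpow]
    exact zpow_mem (mem_zpowers _) n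
  autP := by
    intro α hα
    obtain ⟨u, hu, e1⟩ := h.autP ((MulAut.congr e).symm α) (by
      intro x hx
      show e.symm (α (e x)) = x
      rw [hα (e x) ⟨x, hx, rfl⟩, e.symm_apply_apply])
    refine ⟨e u, ?_, ?_⟩
    · obtain ⟨n, rfl⟩ := mem_zpowers_iff.1 hu
      rw [map_zpow]
      exact zpow_mem (mem_zpowers _) n
    · have e2 : α = (MulAut.congr e) (MulAut.conj u) := by
        rw [← e1, MulEquiv.apply_symm_apply]
      rw [e2]
      ext y
      show e (u * e.symm y * u⁻¹) = e u * y * (e u)⁻¹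
      rw [map_mul, map_mul, map_inv, e.apply_symm_apply]
  zE := ⟨z, h.zE, rfl⟩
  EP := map_mono h.EP
  ee := by
    rintro _ ⟨x, hx, rfl⟩
    show e x * e x = 1
    rw [← map_mul, h.ee x hx, map_one]
  ec := by
    rintro _ ⟨x, hx, rfl⟩ _ ⟨y, hy, rfl⟩
    show e x * e y = e y * e x
    rw [← map_mul, h.ec x hx y hy, map_mul]
  estar := by
    intro β
    let f := P.equivMapOfInjective e.toMonoidHom e.injective
    obtain ⟨n, hn, h1⟩ := h.estar (f.trans (β.trans f.symm))
    refine ⟨e n, by rw [← map_mul, hn, map_mul], ?_⟩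
    intro y hy
    obtain ⟨x, hx, rfl⟩ := hy
    have h2 := congrArg e (h1 x hx)
    have hx' : f ⟨x, h.EP hx⟩ = ⟨e.toMonoidHom x, map_mono h.EP ⟨x, hx, rfl⟩⟩ := Subtype.ext rfl
    have h3 : ((f.trans (β.trans f.symm)) ⟨x, h.EP hx⟩ : P) = f.symm (β (f ⟨x, h.EP hx⟩)) := rfl
    rw [h3, hx'] at h2
    have h4 : ∀ y : P.map e.toMonoidHom, e ((f.symm y : P) : K) = y := by
      intro y
      obtain ⟨x, rfl⟩ := f.surjective y
      rw [f.symm_apply_apply]
      rfl
    rw [h4, map_mul, map_mul, map_inv] at h2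
    exact h2
  kk := by
    rintro _ ⟨x, hx, rfl⟩ hx1
    obtain ⟨k, hk, hkE⟩ := h.kk x hx (fun h1 => hx1 (by
      show e x = 1
      rw [h1, map_one]))
    refine ⟨e k, ?_, ?_⟩
    · show e k * e z * (e k)⁻¹ = e x
      rw [← map_mul, ← map_inv, ← map_mul, hk]
    · rintro _ ⟨y, hy, rfl⟩
      exact ⟨_, hkE y hy, by show e (k * y * k⁻¹) = e k * e y * (e k)⁻¹; rw [map_mul, map_mul, map_inv]⟩
  rel := by
    obtain ⟨k1, k2, x, h1, h2, h3, h4, h5, h6, h7, h8, h9⟩ := h.rel
    have hc : ∀ k y : K, e k * e y * (e k)⁻¹ = e (k * y * k⁻¹) := fun k y => by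
      rw [map_mul, map_mul, map_inv]
    refine ⟨e k1, e k2, e x, ?_, ?_, ⟨x, h3, rfl⟩, ?_, ?_, ?_, ?_, ?_, ?_⟩
    · rintro _ ⟨y, hy, rfl⟩
      exact ⟨_, h1 y hy, (hc k1 y).symm⟩
    · rintro _ ⟨y, hy, rfl⟩
      exact ⟨_, h2 y hy, (hc k2 y).symm⟩
    · rw [← map_one e]; exact fun h => h4 (e.injective h)
    · exact fun h => h5 (e.injective h)
    · rw [hc]; exact fun h => h6 (e.injective h)
    · rw [hc, ← map_mul]; exact fun h => h7 (e.injective h)
    · rw [hc, hc, h8, map_mul]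
    · rw [hc, hc, ← map_inv, ← map_mul, ← map_mul]
      exact ⟨_, h9, rfl⟩

end Cfsg.Agent.OddHalf.D8.ON.Sheet
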