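import Cfsg.Agent.OddHalf.D8.ON.Sheet
import Cfsg.Agent.OddHalf.D8.Front
import Cfsg.Agent.OddHalf.D8.PumpX

/-!
# ODD half, D8, `K = ON`: the component of `C_G(z)` containing `C_K(z)^∞`

`Out K t q z P` (front end), `SheetON z v P E`; `M` a component of `C_G(z)` containing `P`.

* `exists_w`: some `w ∈ C_G(E)` maps `t` to `t z`;
* `normal`: `M` is normal in `C_G(z)`;
* `not_comm`: `t` does not centralise `M`;
* `no_tv`: `t v` does not centralise `M`;
* `concl`: `t ∈ M` and `C_G(M) ≤ ⟨v⟩`, or `t ∉ M C_G(M)`.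
-/

set_option autoImplicit false

namespace Cfsg.Agent.OddHalf.D8.ON.Kill

open Subgroup Cfsg Cfsg.Agent.OddHalf.Front.FE Cfsg.Agent.OddHalf.D8.Sheet Cfsg.Agent.OddHalf.D8.GlueE
  Cfsg.Agent.OddHalf.D8.Front Cfsg.Agent.OddHalf.D8.ON.Sheet Cfsg.Agent.OddHalf.D3

universe u

/-! ### Facts in `K` -/

section K

variable {K : Type*} [Group K] {z v : K} {P E : Subgroup K}

theorem z_v (sh : SheetON z v P E) : z * v = v * z := by rw [← sh.vv]; group

theorem zv_cases (sh : SheetON z v P E) {u : K} (hu : u ∈ zpowers v) : u = 1 ∨ u = z ∨ u = v ∨ u = z * v := by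
  obtain ⟨n, rfl⟩ := mem_zpowers_iff.1 hu
  have h4 : v ^ (4 : ℤ) = 1 := by
    have e : v ^ (4 : ℤ) = (v * v) * (v * v) := by
      rw [zpow_ofNat, pow_succ, pow_succ, pow_two]; simp only [mul_assoc]
    rw [e, sh.vv, sh.basic.zz]
  have h : v ^ n = v ^ (n % 4) := by
    conv_lhs => rw [← Int.emod_add_mul_ediv n 4, zpow_add, zpow_mul, h4, one_zpow, mul_one]
  rw [h]
  have h1 := Int.emod_nonneg n (show (4 : ℤ) ≠ 0 by norm_num)
  have h2 := Int.emod_lt_of_pos n (show (0 : ℤ) < 4 by norm_num)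
  obtain ⟨m, hm⟩ : ∃ m, m = n % 4 := ⟨_, rfl⟩
  rw [← hm] at h1 h2 ⊢
  interval_cases m
  · left; simp
  · right; right; left; simp
  · right; left
    rw [← sh.vv]; exact zpow_two v
  · right; right; right
    rw [← sh.vv, zpow_ofNat, pow_succ, pow_two]

theorem zv_inv (sh : SheetON z v P E) {u : K} (hu : u ∈ zpowers v) (huu : u * u = 1) : u = 1 ∨ u = z := by
  have hzv := z_v sh
  rcases zv_cases sh hu with h | h | h | h
  · exact Or.inl h
  · exact Or.inr h
  · exfalso
    rw [h, sh.vv] at huu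
    exact sh.basic.z1 huu
  · exfalso
    rw [h] at huu
    apply sh.basic.z1
    calc z = (z * z) * (v * v) := by rw [sh.basic.zz, one_mul, sh.vv]
      _ = z * (z * v) * v := by group
      _ = z * (v * z) * v := by rw [hzv]
      _ = z * v * (z * v) := by group
      _ = 1 := huu

theorem E_comm_v (sh : SheetON z v P E) {e : K} (he : e ∈ E) : e * v = v * e := (sh.Pv e).1 (sh.EP he)

theorem norm_inv [Finite K] {k : K} (h : ∀ y ∈ E, k * y * k⁻¹ ∈ E) {y : K} (hy : y ∈ E) : k⁻¹ * y * k ∈ E := by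
  have h1 : E.map (MulAut.conj k).toMonoidHom ≤ E := by
    rintro _ ⟨e, he, rfl⟩
    exact h e he
  have h2 : E.map (MulAut.conj k).toMonoidHom = E := by
    apply Subgroup.eq_of_le_of_card_ge h1
    exact (Subgroup.card_map_of_injective (MulAut.conj k).injective).ge
  rw [← h2] at hy
  obtain ⟨e, he, h3⟩ := hy
  have h3 : k * e * k⁻¹ = y := h3
  have h4 : k⁻¹ * y * k = e := by rw [← h3]; group
  rw [h4]; exact he

end K

/-! ### Facts in `G` -/

variable {G : Type u} [Group G] {K : Subgroup G} {t q : G} {z v : K} {P E : Subgroup K}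

theorem tK_comm (o : Out K t q z P) (k : K) : (k : G) * t = t * k := o.emb.st.Kt k k.2

/-- the centraliser of `P` in `C(t)` -/
theorem cent_P (o : Out K t q z P) (sh : SheetON z v P E) {c : G} (hct : c * t = t * c)
    (hc : ∀ p ∈ P, c * (p : G) = p * c) : ∃ u ∈ zpowers v, c = (u : G) ∨ c = t * (u : G) := by
  have h := o.emb
  obtain ⟨u, hu, hux⟩ := sh.autP (K.normalizerMonoidHom ⟨c, h.nor hct⟩) (by
    intro p hp
    apply Subtype.ext
    rw [nmh_apply, hc p hp, mul_inv_cancel_right])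
  have h3 := exists_of_conj (h.nor hct) hux
  have h4 : (u : G)⁻¹ * c ∈ zpowers q := by
    apply h.st.cK
    · have h5 := h.st.Kt (u : G)⁻¹ (K.inv_mem u.2)
      calc (u : G)⁻¹ * c * t = (u : G)⁻¹ * (c * t) := by group
        _ = ((u : G)⁻¹ * t) * c := by rw [hct]; group
        _ = t * ((u : G)⁻¹ * c) := by rw [h5]; group
    · exact h3
  refine ⟨u, hu, ?_⟩
  rcases o.Q2 _ h4 with e | e
  · left
    exact (inv_mul_eq_one.1 e).symm
  · right
    rw [← tK_comm o u, ← e]; group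

/-- some element of `C_G(E)` maps `t` to `t z` -/
theorem exists_w (o : Out K t q z P) (sh : SheetON z v P E) :
    ∃ w : G, w * t * w⁻¹ = t * z ∧ ∀ e ∈ E, w * (e : G) = e * w := by
  have hE := o.emb
  obtain ⟨x, -, hxt, hxz⟩ := o.swap
  have hmemP : ∀ y : K, (y : G) ∈ P.map K.subtype ↔ y ∈ P := by
    intro y
    rw [Emb.mem_map]
    exact ⟨fun ⟨_, h⟩ => h, fun h => ⟨y.2, h⟩⟩
  have fwd : ∀ y : P, x * (y : K) * x⁻¹ ∈ P.map K.subtype := fun y =>
    (hE.conj_P_swap hxt hxz).1 ((hmemP _).2 y.2)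
  have bwd : ∀ y : P, x⁻¹ * (y : K) * x ∈ P.map K.subtype := fun y =>
    (hE.iso x (Or.inr (Or.inr hxt)) (Or.inr (Or.inl hxz))).2 _ ((hmemP _).2 y.2)
  let β : MulAut P :=
    { toFun := fun y => ⟨⟨x * (y : K) * x⁻¹, (Emb.mem_map.1 (fwd y)).1⟩, (Emb.mem_map.1 (fwd y)).2⟩
      invFun := fun y => ⟨⟨x⁻¹ * (y : K) * x, (Emb.mem_map.1 (bwd y)).1⟩, (Emb.mem_map.1 (bwd y)).2⟩
      left_inv := by
        intro y
        apply Subtype.ext
        apply Subtype.ext
        show x⁻¹ * (x * (y : K) * x⁻¹) * x = (y : K)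
        group
      right_inv := by
        intro y
        apply Subtype.ext
        apply Subtype.ext
        show x * (x⁻¹ * (y : K) * x) * x⁻¹ = (y : K)
        group
      map_mul' := by
        intro y w
        apply Subtype.ext
        apply Subtype.ext
        show x * ((y : K) * (w : K) : G) * x⁻¹ = (x * (y : K) * x⁻¹) * (x * (w : K) * x⁻¹)
        group }
  obtain ⟨n, hnz, hn⟩ := sh.estar β
  have hn' : ∀ e ∈ E, x * (e : G) * x⁻¹ = (n : G) * e * (n : G)⁻¹ := fun e he => congrArg Subtype.val (hn e he)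
  have hnt := tK_comm o n
  have hnz' : (n : G) * z = z * n := congrArg Subtype.val hnz
  refine ⟨(n : G)⁻¹ * x, ?_, ?_⟩
  · have h1 : (n : G)⁻¹ * t * n = t := by rw [mul_assoc, ← hnt]; group
    have h2 : (n : G)⁻¹ * z * n = z := by rw [mul_assoc, ← hnz']; group
    calc (n : G)⁻¹ * x * t * ((n : G)⁻¹ * x)⁻¹ = (n : G)⁻¹ * (x * t * x⁻¹) * n := by group
      _ = ((n : G)⁻¹ * t * n) * ((n : G)⁻¹ * z * n) := by rw [hxt]; group
      _ = t * z := by rw [h1, h2]
  · intro e he
    calc (n : G)⁻¹ * x * (e : G) = (n : G)⁻¹ * (x * (e : G) * x⁻¹) * x := by group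
      _ = (n : G)⁻¹ * ((n : G) * e * (n : G)⁻¹) * x := by rw [hn' e he]
      _ = (e : G) * ((n : G)⁻¹ * x) := by group

/-- for `e ∈ E`, some element of `C_G(E)` maps `t` to `t e` -/
theorem exists_we [Finite G] (o : Out K t q z P) (sh : SheetON z v P E) {e : K} (he : e ∈ E) (he1 : e ≠ 1) :
    ∃ w : G, w * t * w⁻¹ = t * e ∧ ∀ y ∈ E, w * (y : G) = y * w := by
  obtain ⟨w, hw, hwE⟩ := exists_w o sh
  obtain ⟨k, hk, hkE⟩ := sh.kk e he he1
  have hkt := tK_comm o k
  have h1 : (k : G)⁻¹ * t * k = t := by rw [mul_assoc, ← hkt]; group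
  have hk' : (k : G) * z * (k : G)⁻¹ = e := congrArg Subtype.val hk
  refine ⟨(k : G) * w * (k : G)⁻¹, ?_, ?_⟩
  · calc (k : G) * w * (k : G)⁻¹ * t * ((k : G) * w * (k : G)⁻¹)⁻¹
        = (k : G) * (w * ((k : G)⁻¹ * t * k) * w⁻¹) * (k : G)⁻¹ := by group
      _ = (k : G) * (t * z) * (k : G)⁻¹ := by rw [h1, hw]
      _ = ((k : G) * t) * z * (k : G)⁻¹ := by group
      _ = t * ((k : G) * z * (k : G)⁻¹) := by rw [hkt]; group
      _ = t * e := by rw [hk']
  · intro y hy
    have h2 := hwE _ (norm_inv hkE hy)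
    have h3 : (((k⁻¹ * y * k : K)) : G) = (k : G)⁻¹ * y * k := rfl
    rw [h3] at h2
    calc (k : G) * w * (k : G)⁻¹ * (y : G) = (k : G) * (w * ((k : G)⁻¹ * y * k)) * (k : G)⁻¹ := by group
      _ = (k : G) * (((k : G)⁻¹ * y * k) * w) * (k : G)⁻¹ := by rw [h2]
      _ = (y : G) * ((k : G) * w * (k : G)⁻¹) := by group

/-- `z` does not centralise `k P k⁻¹` if `k z k⁻¹ ≠ z`, `k ∈ N_K(E)` -/
theorem z_not_comm [Finite G] (sh : SheetON z v P E) {k : K}
    (hk : k * z * k⁻¹ ≠ z) : ¬ ∀ p ∈ P, (z : G) * ((k * p * k⁻¹ : K) : G) = ((k * p * k⁻¹ : K) : G) * z := by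
  intro h
  have h1 : k⁻¹ * z * k ∈ zpowers v := by
    apply sh.cenP
    intro p hp
    have h2 : z * (k * p * k⁻¹) = (k * p * k⁻¹) * z := Subtype.ext (h p hp)
    calc k⁻¹ * z * k * p = k⁻¹ * (z * (k * p * k⁻¹)) * k := by group
      _ = k⁻¹ * ((k * p * k⁻¹) * z) * k := by rw [h2]
      _ = p * (k⁻¹ * z * k) := by group
  have h2 : k⁻¹ * z * k * (k⁻¹ * z * k) = 1 := by
    calc k⁻¹ * z * k * (k⁻¹ * z * k) = k⁻¹ * (z * z) * k := by group
      _ = 1 := by rw [sh.basic.zz]; group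
  rcases zv_inv sh h1 h2 with h3 | h3
  · apply sh.basic.z1
    calc z = k * (k⁻¹ * z * k) * k⁻¹ := by group
      _ = 1 := by rw [h3]; group
  · apply hk
    calc k * z * k⁻¹ = k * (k⁻¹ * z * k) * k⁻¹ := by rw [h3]
      _ = z := by group

theorem P_le_M {M : Subgroup G} (hPM : P.map K.subtype ≤ M) {p : K} (hp : p ∈ P) : (p : G) ∈ M :=
  hPM ⟨p, hp, rfl⟩

/-- **`M` is normal in `C_G(z)`** -/
theorem normal [Finite G] (o : Out K t q z P) (sh : SheetON z v P E)
    (hbal : ∀ y : G, orderOf y = 2 → centralizerPPrimeCore 2 y = ⊥)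
    (hev : ∀ (y : G) (L : Subgroup G), orderOf y = 2 → Comp y L → 2 ∣ Nat.card L)
    {M : Subgroup G} (hM : Comp (z : G) M) (hPM : P.map K.subtype ≤ M) {g : G} (hg : g * z = z * g) :
    cj g M = M := by
  by_contra hne
  have hz2 : orderOf (z : G) = 2 := orderOf_eq_prime (by rw [pow_two]; exact o.emb.zz) o.emb.z1
  have hN : Comp (z : G) (cj g M) := hM.conj_of_comm hg
  have hMN : cj g M ≤ centralizer (M : Set G) := hN.comm hM hne
  have hzM : (z : G) ∈ M := P_le_M hPM sh.basic.zP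
  have hzN : (z : G) ∈ cj g M := by
    rw [mem_cj]
    have : g⁻¹ * z * g = z := by rw [mul_assoc, ← hg]; group
    rw [this]; exact hzM
  obtain ⟨-, -, e, -, -, he, he1, hez, -⟩ := sh.rel
  obtain ⟨k, hk, hkE⟩ := sh.kk e he he1
  have hk' : (k : G) * z * (k : G)⁻¹ = e := congrArg Subtype.val hk
  have hkz : k * z * k⁻¹ ≠ z := by rw [hk]; exact hez
  have he2 : orderOf (e : G) = 2 := by
    rw [← hk', orderOf_conj]; exact hz2
  have hecomm : (e : G) * z = z * e := congrArg Subtype.val (sh.ec e he z sh.zE)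
  have hMe : Comp (e : G) (cj (k : G) M) := by
    have := hM.conj (k : G)
    rwa [hk'] at this
  have hPe : ∀ p ∈ P, ((k * p * k⁻¹ : K) : G) ∈ cj (k : G) M := fun p hp =>
    conj_mem_cj (g := (k : G)) (P_le_M hPM hp)
  have hzMe : (z : G) ∈ cj (k : G) M := by
    have h1 : k⁻¹ * z * k ∈ E := norm_inv hkE sh.zE
    rw [mem_cj]
    exact P_le_M hPM (sh.EP h1)
  -- `N ≤ C(e) ∩ C(z)`
  have hNe : cj g M ≤ centralizer ({(e : G)} : Set G) := by
    intro x hx
    rw [mem_cs]
    exact (mem_centralizer_iff.1 (hMN hx) e (P_le_M hPM (sh.EP he))).symm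
  have hsub : ((cj g M).subgroupOf (centralizer ({(e : G)} : Set G) ⊓ centralizer ({(z : G)} : Set G))).IsSubnormal := by
    let ι : ↥(centralizer ({(e : G)} : Set G) ⊓ centralizer ({(z : G)} : Set G)) →*
      ↥(centralizer ({(z : G)} : Set G)) := inclusion inf_le_right
    have h2 : (cj g M).subgroupOf (centralizer ({(e : G)} : Set G) ⊓ centralizer ({(z : G)} : Set G)) =
        ((cj g M).subgroupOf (centralizer ({(z : G)} : Set G))).comap ι := rfl
    rw [h2]
    exact hN.comp.1.comap ι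
  obtain ⟨D, hD, hcase⟩ := PumpX.pump (a := (e : G)) (t := (z : G)) (hbal _ he2) o.emb.zz hecomm hNe hN.le hN.quasi
    (hev _ _ hz2 hN) hsub
  -- `z` normalises the components of `C(e)`
  have hzD : cj (z : G) D = D := by
    by_cases h : D = cj (k : G) M
    · rw [h]; exact cj_eq_of_mem hzMe
    · exact cj_eq_of_mem_centralizer (comm_symm (hD.comm hMe h) hzMe)
  have hle : cj g M ≤ D := by
    rcases hcase with h | h | h
    · exact h.le
    · exact h.1.le
    · exact absurd hzD h.1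
  apply z_not_comm sh hkz
  intro p hp
  by_cases h : D = cj (k : G) M
  · -- `N = k M k⁻¹`
    have h1 : cj g M = D := by
      apply Subgroup.eq_of_le_of_card_ge hle
      rw [h, card_cj, card_cj]
    have h2 : ((k * p * k⁻¹ : K) : G) ∈ cj g M := by rw [h1, h]; exact hPe p hp
    exact (mem_cs.1 (hN.le h2)).symm
  · exact comm_elt (hD.comm hMe h) (hle hzN) (hPe p hp)

section Main

variable {M : Subgroup G}

/-- the facts on `M` -/
structure Nc (z : G) (J M : Subgroup G) : Prop where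
  comp : Comp z M
  JM : J ≤ M
  n : ∀ g : G, g * z = z * g → cj g M = M

theorem zM (sh : SheetON z v P E) (h : Nc (z : G) (P.map K.subtype) M) : (z : G) ∈ M :=
  P_le_M h.JM sh.basic.zP

/-- **`t` does not centralise `M`** -/
theorem not_comm [Finite G] (o : Out K t q z P) (sh : SheetON z v P E) (h : Nc (z : G) (P.map K.subtype) M) :
    ¬ ∀ x ∈ M, t * x = x * t := by
  intro ht
  obtain ⟨-, -, e, -, -, he, he1, hez, -⟩ := sh.rel
  obtain ⟨w, hwt, hwE⟩ := exists_we o sh he he1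
  have hwz := hwE z sh.zE
  have hte : ∀ y ∈ M, t * e * y = y * (t * e) := by
    intro y hy
    have h1 : w⁻¹ * y * w ∈ M := by
      rw [← mem_cj, h.n w hwz]; exact hy
    have h2 := ht _ h1
    calc t * e * y = w * (t * (w⁻¹ * y * w)) * w⁻¹ := by rw [← hwt]; group
      _ = w * ((w⁻¹ * y * w) * t) * w⁻¹ := by rw [h2]
      _ = y * (t * e) := by rw [← hwt]; group
  have he' : e ∈ zpowers v := by
    apply sh.cenP
    intro p hp
    apply Subtype.ext
    show (e : G) * p = p * e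
    have h1 := ht p (P_le_M h.JM hp)
    have h2 := hte p (P_le_M h.JM hp)
    calc (e : G) * p = t⁻¹ * (t * e * p) := by group
      _ = t⁻¹ * (p * (t * e)) := by rw [h2]
      _ = t⁻¹ * (p * t) * e := by group
      _ = t⁻¹ * (t * p) * e := by rw [h1]
      _ = p * e := by group
  rcases zv_inv sh he' (sh.ee e he) with h1 | h1
  · exact he1 h1
  · exact hez h1

/-- elements of `C(M) ∩ C(t)`, first step -/
theorem cent_M (o : Out K t q z P) (sh : SheetON z v P E) (h : Nc (z : G) (P.map K.subtype) M) {c : G}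
    (hcM : ∀ x ∈ M, c * x = x * c) (hct : c * t = t * c) : ∃ u ∈ zpowers v, c = (u : G) ∨ c = t * (u : G) :=
  cent_P o sh hct fun p hp => hcM p (P_le_M h.JM hp)

/-- **`t v` does not centralise `M`** -/
theorem no_tv [Finite G] (o : Out K t q z P) (sh : SheetON z v P E) (h : Nc (z : G) (P.map K.subtype) M) :
    ¬ ∀ x ∈ M, t * v * x = x * (t * v) := by
  intro htv
  have htt := o.emb.st.tt
  have hzz := o.emb.zz
  have hnc := not_comm o sh h
  have hvt := tK_comm o v
  have hzMc : ∀ x ∈ M, (z : G) * x = x * z := fun x hx => (mem_cs.1 (h.comp.le hx)).symm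
  have hvM : (v : G) ∈ M := P_le_M h.JM ((sh.Pv v).2 rfl)
  -- the elements of `M ∩ C(M) ∩ C(t)` are `1`, `z`, `t v`, `t v z`
  have key0 : ∀ y ∈ M, (∀ x ∈ M, y * x = x * y) → y * t = t * y →
      y = 1 ∨ y = z ∨ y = t * v ∨ y = t * v * z := by
    intro y hy hyM hyt
    obtain ⟨u, hu, huy⟩ := cent_M o sh h hyM hyt
    rcases huy with huy | huy
    · rcases zv_cases sh hu with h1 | h1 | h1 | h1
      · left; rw [huy, h1]; rfl
      · right; left; rw [huy, h1]
      · exfalso
        apply hnc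
        intro x hx
        have h2 := htv x hx
        have h3 := hyM x hx
        rw [huy, h1] at h3
        calc t * x = (t * v * x) * (x⁻¹ * (v : G)⁻¹ * x) := by group
          _ = (x * (t * v)) * (x⁻¹ * (v : G)⁻¹ * x) := by rw [h2]
          _ = x * t * v * (x⁻¹ * ((v : G)⁻¹ * x)) := by group
          _ = x * t * v * (x⁻¹ * (x * (v : G)⁻¹)) := by
            have : (v : G)⁻¹ * x = x * (v : G)⁻¹ := by
              rw [inv_mul_eq_iff_eq_mul, ← mul_assoc, h3]; group
            rw [this]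
          _ = x * t := by group
      · exfalso
        apply hnc
        intro x hx
        have h2 := htv x hx
        have h3 := hyM x hx
        have h4 : (u : G) = z * v := by rw [h1]; rfl
        have hzv : (z : G) * v = v * z := congrArg Subtype.val (z_v sh)
        rw [huy, h4] at h3
        have h5 : (v : G) * x = x * v := by
          have h6 := hzMc x hx
          calc (v : G) * x = (z : G)⁻¹ * (z * v * x) := by group
            _ = (z : G)⁻¹ * (x * (z * v)) := by rw [h3]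
            _ = (z : G)⁻¹ * (x * z) * v := by group
            _ = (z : G)⁻¹ * (z * x) * v := by rw [h6]
            _ = x * v := by group
        have h7 : (v : G)⁻¹ * x = x * (v : G)⁻¹ := by
          rw [inv_mul_eq_iff_eq_mul, ← mul_assoc, h5]; group
        calc t * x = (t * v * x) * (x⁻¹ * ((v : G)⁻¹ * x)) := by group
          _ = (x * (t * v)) * (x⁻¹ * (x * (v : G)⁻¹)) := by rw [h2, h7]
          _ = x * t := by group
    · rcases zv_cases sh hu with h1 | h1 | h1 | h1
      · exfalso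
        apply hnc
        intro x hx
        have h3 := hyM x hx
        rw [huy, h1] at h3
        simpa using h3
      · exfalso
        apply hnc
        intro x hx
        have h3 := hyM x hx
        rw [huy, h1] at h3
        have h6 := hzMc x hx
        calc t * x = t * (x * z) * (z : G)⁻¹ := by group
          _ = (t * z * x) * (z : G)⁻¹ := by rw [← h6]; group
          _ = x * t := by rw [h3]; group
      · right; right; left
        rw [huy, h1]
      · right; right; right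
        have h4 : (u : G) = z * v := by rw [h1]; rfl
        have hzv : (z : G) * v = v * z := congrArg Subtype.val (z_v sh)
        rw [huy, h4, hzv]; group
  obtain ⟨k1, k2, e, hk1, hk2, he, he1, hez, he3, he4, hk12, hrel⟩ := sh.rel
  obtain ⟨w, hwt, hwE⟩ := exists_we o sh he he1
  -- the action of `w` on `k v k⁻¹`
  have key : ∀ k : K, (∀ y ∈ E, k * y * k⁻¹ ∈ E) → ∃ y : K, (y = 1 ∨ y = k * z * k⁻¹) ∧
      w * ((k * v * k⁻¹ : K) : G) * w⁻¹ = ((k * v * k⁻¹ : K) : G) * e * y := by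
    intro k hkE
    have hkt := tK_comm o k
    have hkt' : (k : G)⁻¹ * t = t * (k : G)⁻¹ := by
      rw [inv_mul_eq_iff_eq_mul, ← mul_assoc, hkt, mul_assoc, mul_inv_cancel, mul_one]
    have hMe : Comp ((k : G) * z * (k : G)⁻¹) (cj (k : G) M) := h.comp.conj (k : G)
    have hfE : k * z * k⁻¹ ∈ E := hkE z sh.zE
    -- `w` normalises `k M k⁻¹`
    have hwf := hwE _ hfE
    have hwn : cj w (cj (k : G) M) = cj (k : G) M := by
      have h1 : ((k : G)⁻¹ * w * k) * z = z * ((k : G)⁻¹ * w * k) := by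
        have h2 : ((k * z * k⁻¹ : K) : G) = (k : G) * z * (k : G)⁻¹ := rfl
        rw [h2] at hwf
        calc ((k : G)⁻¹ * w * k) * z = (k : G)⁻¹ * (w * ((k : G) * z * (k : G)⁻¹)) * k := by group
          _ = (k : G)⁻¹ * (((k : G) * z * (k : G)⁻¹) * w) * k := by rw [hwf]
          _ = z * ((k : G)⁻¹ * w * k) := by group
      have h2 := h.n _ h1
      have h3 := congrArg (cj (k : G)) h2
      rw [cj_cj] at h3
      rw [cj_cj]
      have h4 : (k : G) * ((k : G)⁻¹ * w * k) = w * k := by group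
      rwa [h4] at h3
    obtain ⟨V, hV⟩ : ∃ V : G, V = ((k * v * k⁻¹ : K) : G) := ⟨_, rfl⟩
    have hVe : V = (k : G) * v * (k : G)⁻¹ := hV
    rw [← hV]
    have hVM : V ∈ cj (k : G) M := by rw [hVe]; exact conj_mem_cj hvM
    have htV : t * V = V * t := by
      rw [hVe]
      calc t * ((k : G) * v * (k : G)⁻¹) = (t * k) * v * (k : G)⁻¹ := by group
        _ = k * (t * v) * (k : G)⁻¹ := by rw [← hkt]; group
        _ = k * v * (t * (k : G)⁻¹) := by rw [← hvt]; group
        _ = (k : G) * v * (k : G)⁻¹ * t := by rw [← hkt']; group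
    have heV : (e : G) * V = V * e := by
      have h1 : k⁻¹ * e * k ∈ E := norm_inv hkE he
      have h2 := E_comm_v sh h1
      rw [hV]
      have h3 : e * (k * v * k⁻¹) = (k * v * k⁻¹) * e := by
        calc e * (k * v * k⁻¹) = k * ((k⁻¹ * e * k) * v) * k⁻¹ := by group
          _ = k * (v * (k⁻¹ * e * k)) * k⁻¹ := by rw [h2]
          _ = (k * v * k⁻¹) * e := by group
      exact congrArg Subtype.val h3
    have heMk : (e : G) ∈ cj (k : G) M := by
      rw [mem_cj]
      exact P_le_M h.JM (sh.EP (norm_inv hkE he))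
    -- `c = t V` centralises `k M k⁻¹`
    have hc : ∀ x ∈ cj (k : G) M, t * V * x = x * (t * V) := by
      intro x hx
      rw [mem_cj] at hx
      have h1 := htv _ hx
      have h2 : t * V = k * (t * v) * (k : G)⁻¹ := by
        rw [hVe]
        calc t * ((k : G) * v * (k : G)⁻¹) = (t * k) * v * (k : G)⁻¹ := by group
          _ = k * (t * v) * (k : G)⁻¹ := by rw [← hkt]; group
      rw [h2]
      calc k * (t * v) * (k : G)⁻¹ * x = k * (t * v * ((k : G)⁻¹ * x * k)) * (k : G)⁻¹ := by group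
        _ = k * (((k : G)⁻¹ * x * k) * (t * v)) * (k : G)⁻¹ := by rw [h1]
        _ = x * (k * (t * v) * (k : G)⁻¹) := by group
    have hVw : w * V * w⁻¹ ∈ cj (k : G) M := by
      have := conj_mem_cj (g := w) hVM
      rwa [hwn] at this
    -- `c' = w c w⁻¹`
    have hc' : ∀ x ∈ cj (k : G) M, (t * e * (w * V * w⁻¹)) * x = x * (t * e * (w * V * w⁻¹)) := by
      intro x hx
      have h1 : w⁻¹ * x * w ∈ cj (k : G) M := by
        rw [← mem_cj, hwn]; exact hx
      have h2 := hc _ h1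
      have h3 : t * e * (w * V * w⁻¹) = w * (t * V) * w⁻¹ := by
        rw [← hwt]; group
      rw [h3]
      calc w * (t * V) * w⁻¹ * x = w * (t * V * (w⁻¹ * x * w)) * w⁻¹ := by group
        _ = w * ((w⁻¹ * x * w) * (t * V)) * w⁻¹ := by rw [h2]
        _ = x * (w * (t * V) * w⁻¹) := by group
    -- `y = c⁻¹ c'`
    obtain ⟨y, hy⟩ : ∃ y : G, y = V⁻¹ * e * (w * V * w⁻¹) := ⟨_, rfl⟩
    have hyM : y ∈ cj (k : G) M := by
      rw [hy]
      exact mul_mem (mul_mem (inv_mem hVM) heMk) hVw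
    have hyc : y = (t * V)⁻¹ * (t * e * (w * V * w⁻¹)) := by rw [hy]; group
    have hyR : ∀ x ∈ cj (k : G) M, y * x = x * y := by
      intro x hx
      have h1 := hc' x hx
      have h2 := hc x hx
      have h3 : (t * V)⁻¹ * x = x * (t * V)⁻¹ := by
        rw [inv_mul_eq_iff_eq_mul, ← mul_assoc, h2]; group
      rw [hyc, mul_assoc, h1, ← mul_assoc, h3, mul_assoc]
    have hyt : y * t = t * y := by
      -- `t = (t V) V⁻¹`
      have h1 := hc y hyM
      have h2 : y * V = V * y := hyR V hVM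
      have h3 : y * V⁻¹ = V⁻¹ * y := by
        rw [eq_inv_mul_iff_mul_eq, ← mul_assoc, ← h2]; group
      calc y * t = (y * (t * V)) * V⁻¹ := by group
        _ = t * V * (y * V⁻¹) := by rw [← h1]; group
        _ = t * y := by rw [h3]; group
    -- transport to `M`
    obtain ⟨y0, hy0⟩ : ∃ y0 : G, y0 = (k : G)⁻¹ * y * k := ⟨_, rfl⟩
    have hy0M : y0 ∈ M := by rw [hy0, ← mem_cj]; exact hyM
    have hyy0 : y = k * y0 * (k : G)⁻¹ := by rw [hy0]; group
    have hy0R : ∀ x ∈ M, y0 * x = x * y0 := by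
      intro x hx
      have h1 := hyR _ (conj_mem_cj (g := (k : G)) hx)
      rw [hyy0] at h1
      calc y0 * x = (k : G)⁻¹ * (k * y0 * (k : G)⁻¹ * (k * x * (k : G)⁻¹)) * k := by group
        _ = (k : G)⁻¹ * (k * x * (k : G)⁻¹ * (k * y0 * (k : G)⁻¹)) * k := by rw [h1]
        _ = x * y0 := by group
    have hy0t : y0 * t = t * y0 := by
      rw [hy0]
      calc (k : G)⁻¹ * y * k * t = (k : G)⁻¹ * y * (k * t) := by group
        _ = (k : G)⁻¹ * (y * t) * k := by rw [hkt]; group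
        _ = ((k : G)⁻¹ * t) * y * k := by rw [hyt]; group
        _ = t * ((k : G)⁻¹ * y * k) := by rw [hkt']; group
    have hVV : V * V = (k : G) * z * (k : G)⁻¹ := by
      have h1 : (k * v * k⁻¹) * (k * v * k⁻¹) = k * z * k⁻¹ := by
        rw [← sh.vv]; group
      rw [hV]
      exact congrArg Subtype.val h1
    have hfin : y0 = 1 ∨ y0 = z := by
      rcases key0 y0 hy0M hy0R hy0t with h1 | h1 | h1 | h1
      · exact Or.inl h1
      · exact Or.inr h1
      · -- `c' = c²`, an involution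
        exfalso
        have h2 : y = t * V := by
          rw [hyy0, h1, hVe]
          calc k * (t * v) * (k : G)⁻¹ = (k * t) * v * (k : G)⁻¹ := by group
            _ = t * (k * v * (k : G)⁻¹) := by rw [hkt]; group
        have h3 : w * (t * V) * w⁻¹ = t * V * (t * V) := by
          have h4 : w * (t * V) * w⁻¹ = t * e * (w * V * w⁻¹) := by rw [← hwt]; group
          have h5 : t * e * (w * V * w⁻¹) = t * V * y := by rw [hyc]; group
          rw [h4, h5, h2]
        have h4 : (t * V) * (t * V) = (k : G) * z * (k : G)⁻¹ := by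
          calc (t * V) * (t * V) = t * (V * t) * V := by group
            _ = (t * t) * (V * V) := by rw [← htV]; group
            _ = (k : G) * z * (k : G)⁻¹ := by rw [htt, one_mul, hVV]
        have h5 : w * ((t * V) * (t * V)) * w⁻¹ = 1 := by
          calc w * ((t * V) * (t * V)) * w⁻¹ = (w * (t * V) * w⁻¹) * (w * (t * V) * w⁻¹) := by group
            _ = (k * z * (k : G)⁻¹) * (k * z * (k : G)⁻¹) := by rw [h3, h4]
            _ = k * (z * z) * (k : G)⁻¹ := by group
            _ = 1 := by rw [hzz]; group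
        rw [h4] at h5
        apply o.emb.z1
        calc (z : G) = ((k : G)⁻¹ * w⁻¹) * (w * ((k : G) * z * (k : G)⁻¹) * w⁻¹) * (w * k) := by group
          _ = 1 := by rw [h5]; group
      · -- `c' = 1`
        exfalso
        have h2 : y = t * V * (k * z * (k : G)⁻¹) := by
          rw [hyy0, h1, hVe]
          calc k * (t * v * z) * (k : G)⁻¹ = (k * t) * v * z * (k : G)⁻¹ := by group
            _ = t * (k * v * (k : G)⁻¹) * (k * z * (k : G)⁻¹) := by rw [hkt]; group
        have h4 : (t * V) * (t * V) = (k : G) * z * (k : G)⁻¹ := by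
          calc (t * V) * (t * V) = t * (V * t) * V := by group
            _ = (t * t) * (V * V) := by rw [← htV]; group
            _ = (k : G) * z * (k : G)⁻¹ := by rw [htt, one_mul, hVV]
        have h3 : w * (t * V) * w⁻¹ = 1 := by
          have h5 : w * (t * V) * w⁻¹ = t * e * (w * V * w⁻¹) := by rw [← hwt]; group
          have h6 : w * (t * V) * w⁻¹ = (t * V) * y := by rw [h5, hyc]; group
          rw [h6, h2, ← mul_assoc, h4]
          calc (k : G) * z * (k : G)⁻¹ * (k * z * (k : G)⁻¹) = k * (z * z) * (k : G)⁻¹ := by group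
            _ = 1 := by rw [hzz]; group
        have h5 : t * V = 1 := by
          calc t * V = w⁻¹ * (w * (t * V) * w⁻¹) * w := by group
            _ = 1 := by rw [h3]; group
        rw [h5, one_mul] at h4
        apply o.emb.z1
        calc (z : G) = (k : G)⁻¹ * (k * z * (k : G)⁻¹) * k := by group
          _ = 1 := by rw [← h4]; group
    have hwV : w * V * w⁻¹ = V * e * y := by
      have h1 : w * V * w⁻¹ = (e : G)⁻¹ * V * y := by rw [hy]; group
      have h2 : (e : G)⁻¹ = e := inv_eq_of_mul_eq_one_right (congrArg Subtype.val (sh.ee e he))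
      rw [h1, h2, heV]
    rcases hfin with h1 | h1
    · refine ⟨1, Or.inl rfl, ?_⟩
      rw [hwV, hyy0, h1]
      simp
    · refine ⟨k * z * k⁻¹, Or.inr rfl, ?_⟩
      rw [hwV, hyy0, h1]
      rfl
  -- the relation
  obtain ⟨y0, hy0, hw0⟩ := key 1 (fun y hy => by rw [one_mul, inv_one, mul_one]; exact hy)
  obtain ⟨y1, hy1, hw1⟩ := key k1 hk1
  obtain ⟨y2, hy2, hw2⟩ := key k2 hk2
  have h1k : (1 : K) * v * 1⁻¹ = v := by group
  have h1z : (1 : K) * z * 1⁻¹ = z := by group
  rw [h1k] at hw0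
  rw [h1z] at hy0
  obtain ⟨a1, ha1⟩ : ∃ a1, a1 = k1 * v * k1⁻¹ := ⟨_, rfl⟩
  obtain ⟨a2, ha2⟩ : ∃ a2, a2 = k2 * v * k2⁻¹ := ⟨_, rfl⟩
  obtain ⟨b1, hb1⟩ : ∃ b1, b1 = k1 * z * k1⁻¹ := ⟨_, rfl⟩
  obtain ⟨b2, hb2⟩ : ∃ b2, b2 = k2 * z * k2⁻¹ := ⟨_, rfl⟩
  rw [← ha1] at hw1
  rw [← ha2] at hw2
  rw [← hb1] at hy1 he3 he4 hk12
  rw [← hb2] at hy2 hk12
  rw [← ha1, ← ha2] at hrel
  have hb1E : b1 ∈ E := by rw [hb1]; exact hk1 z sh.zE
  have hb2E : b2 ∈ E := by rw [hb2]; exact hk2 z sh.zE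
  have hy0E : y0 ∈ E := by rcases hy0 with h | h <;> rw [h]; exacts [E.one_mem, sh.zE]
  have hy1E : y1 ∈ E := by rcases hy1 with h | h <;> rw [h]; exacts [E.one_mem, hb1E]
  have hy2E : y2 ∈ E := by rcases hy2 with h | h <;> rw [h]; exacts [E.one_mem, hb2E]
  -- elements of `E` commute with `v, a1, a2`
  have cv : ∀ x ∈ E, Commute x v := fun x hx => E_comm_v sh hx
  have ck : ∀ k : K, (∀ y ∈ E, k * y * k⁻¹ ∈ E) → ∀ x ∈ E, Commute x (k * v * k⁻¹) := by
    intro k hkE x hx
    have h2 := E_comm_v sh (norm_inv hkE hx)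
    show x * (k * v * k⁻¹) = (k * v * k⁻¹) * x
    calc x * (k * v * k⁻¹) = k * ((k⁻¹ * x * k) * v) * k⁻¹ := by group
      _ = k * (v * (k⁻¹ * x * k)) * k⁻¹ := by rw [h2]
      _ = (k * v * k⁻¹) * x := by group
  have c1 : ∀ x ∈ E, Commute x a1 := fun x hx => by rw [ha1]; exact ck k1 hk1 x hx
  have c2 : ∀ x ∈ E, Commute x a2 := fun x hx => by rw [ha2]; exact ck k2 hk2 x hx
  have hw0' : w * ((v : K) : G) * w⁻¹ = ((v * e * y0 : K) : G) := hw0
  have hw1' : w * ((a1 : K) : G) * w⁻¹ = ((a1 * e * y1 : K) : G) := hw1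
  have hw2' : w * ((a2 : K) : G) * w⁻¹ = ((a2 * e * y2 : K) : G) := hw2
  have hg : w * (((v * a1 * a2⁻¹ : K)) : G) * w⁻¹ = ((v * a1 * a2⁻¹ : K) : G) := by
    rw [hwE _ hrel]; group
  have hg2 : w * (((v * a1 * a2⁻¹ : K)) : G) * w⁻¹ =
      (((v * e * y0) * (a1 * e * y1) * (a2 * e * y2)⁻¹ : K) : G) := by
    calc w * (((v * a1 * a2⁻¹ : K)) : G) * w⁻¹
        = (w * ((v : K) : G) * w⁻¹) * (w * ((a1 : K) : G) * w⁻¹) * (w * ((a2 : K) : G) * w⁻¹)⁻¹ := by
          show w * ((v : G) * (a1 : G) * (a2 : G)⁻¹) * w⁻¹ = _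
          group
      _ = _ := by rw [hw0', hw1', hw2']; rfl
  have h3 : (v * e * y0) * (a1 * e * y1) * (a2 * e * y2)⁻¹ = v * a1 * a2⁻¹ := by
    apply Subtype.ext
    rw [← hg2, hg]
  have hee := sh.ee
  have hec := sh.ec
  have h4 : (v * e * y0) * (a1 * e * y1) * (a2 * e * y2)⁻¹ = v * a1 * a2⁻¹ * (e * y0 * y1 * y2) := by
    have i1 : e⁻¹ = e := inv_eq_of_mul_eq_one_right (hee e he)
    have i2 : y2⁻¹ = y2 := inv_eq_of_mul_eq_one_right (hee y2 hy2E)
    have m1 : Commute (e * y0) a1 := (c1 _ (E.mul_mem he hy0E))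
    have m2 : Commute (y2 * e) a2⁻¹ := (c2 _ (E.mul_mem hy2E he)).inv_right
    have m3 : Commute ((e * y0) * (e * y1)) a2⁻¹ :=
      (c2 _ (E.mul_mem (E.mul_mem he hy0E) (E.mul_mem he hy1E))).inv_right
    have m4 : Commute y0 e := hec _ hy0E _ he
    have m5 : Commute y1 y2 := hec _ hy1E _ hy2E
    have m6 : Commute y1 e := hec _ hy1E _ he
    have m7 : Commute y2 e := hec _ hy2E _ he
    calc (v * e * y0) * (a1 * e * y1) * (a2 * e * y2)⁻¹
        = v * ((e * y0) * a1) * (e * y1) * (y2⁻¹ * e⁻¹ * a2⁻¹) := by group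
      _ = v * (a1 * (e * y0)) * (e * y1) * ((y2 * e) * a2⁻¹) := by rw [m1.eq, i1, i2]
      _ = v * a1 * ((e * y0) * (e * y1)) * (a2⁻¹ * (y2 * e)) := by rw [m2.eq]; group
      _ = v * a1 * (((e * y0) * (e * y1)) * a2⁻¹) * (y2 * e) := by group
      _ = v * a1 * (a2⁻¹ * ((e * y0) * (e * y1))) * (y2 * e) := by rw [m3.eq]
      _ = v * a1 * a2⁻¹ * (e * (y0 * e) * y1 * (y2 * e)) := by group
      _ = v * a1 * a2⁻¹ * (e * (e * y0) * y1 * (e * y2)) := by rw [m4.eq, m7.eq]
      _ = v * a1 * a2⁻¹ * ((e * e) * y0 * (y1 * e) * y2) := by group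
      _ = v * a1 * a2⁻¹ * (y0 * (e * y1) * y2) := by rw [hee e he, one_mul, m6.eq]
      _ = v * a1 * a2⁻¹ * ((y0 * e) * y1 * y2) := by group
      _ = v * a1 * a2⁻¹ * (e * y0 * y1 * y2) := by rw [m4.eq]
  rw [h3] at h4
  have h5 : e * y0 * y1 * y2 = 1 := by
    have := mul_left_cancel (h4.symm.trans (mul_one _).symm)
    exact this
  -- `e = y0 y1 y2`
  have h6 : e = y0 * y1 * y2 := by
    have i : (y0 * y1 * y2)⁻¹ = y0 * y1 * y2 :=
      inv_eq_of_mul_eq_one_right (hee _ (E.mul_mem (E.mul_mem hy0E hy1E) hy2E))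
    rw [← i, eq_inv_iff_mul_eq_one, ← h5]; group
  have hzz' := sh.basic.zz
  have hbb : b1 * b1 = 1 := hee _ hb1E
  have hbz : b1 * z = z * b1 := hec _ hb1E _ sh.zE
  rcases hy0 with h0 | h0 <;> rcases hy1 with h1 | h1 <;> rcases hy2 with h2 | h2 <;>
    rw [h0, h1, h2] at h6
  · exact he1 (by rw [h6]; group)
  · exact he4 (by rw [h6, hk12]; group)
  · exact he3 (by rw [h6]; group)
  · apply hez
    rw [h6, hk12]
    calc 1 * b1 * (z * b1) = (b1 * z) * b1 := by group
      _ = z * (b1 * b1) := by rw [hbz]; group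
      _ = z := by rw [hbb, mul_one]
  · exact hez (by rw [h6]; group)
  · apply he3
    rw [h6, hk12]
    calc z * 1 * (z * b1) = (z * z) * b1 := by group
      _ = b1 := by rw [hzz', one_mul]
  · exact he4 (by rw [h6]; group)
  · apply he1
    rw [h6, hk12]
    calc z * b1 * (z * b1) = z * (b1 * z) * b1 := by group
      _ = (z * z) * (b1 * b1) := by rw [hbz]; group
      _ = 1 := by rw [hzz', hbb, one_mul]

/-- the centraliser of `M` and `t` -/
theorem cent_Mt [Finite G] (o : Out K t q z P) (sh : SheetON z v P E) (h : Nc (z : G) (P.map K.subtype) M)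
    {c : G} (hcM : ∀ x ∈ M, c * x = x * c) (hct : c * t = t * c) : ∃ u ∈ zpowers v, c = (u : G) := by
  obtain ⟨u, hu, hc | hc⟩ := cent_M o sh h hcM hct
  · exact ⟨u, hu, hc⟩
  exfalso
  have hzMc : ∀ x ∈ M, (z : G) * x = x * z := fun x hx => (mem_cs.1 (h.comp.le hx)).symm
  rcases zv_cases sh hu with h1 | h1 | h1 | h1
  · apply not_comm o sh h
    intro x hx
    have h3 := hcM x hx
    rw [hc, h1] at h3
    simpa using h3
  · apply not_comm o sh h
    intro x hx
    have h3 := hcM x hx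
    rw [hc, h1] at h3
    have h6 := hzMc x hx
    calc t * x = t * (x * z) * (z : G)⁻¹ := by group
      _ = (t * z * x) * (z : G)⁻¹ := by rw [← h6]; group
      _ = x * t := by rw [h3]; group
  · apply no_tv o sh h
    intro x hx
    have h3 := hcM x hx
    rwa [hc, h1] at h3
  · apply no_tv o sh h
    intro x hx
    have h3 := hcM x hx
    have h4 : (u : G) = v * z := by
      rw [h1, z_v sh]; rfl
    rw [hc, h4] at h3
    have h6 := hzMc x hx
    calc t * v * x = t * v * (x * z) * (z : G)⁻¹ := by group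
      _ = (t * (v * z) * x) * (z : G)⁻¹ := by rw [← h6]; group
      _ = x * (t * v) := by rw [h3]; group

/-- **conclusion** -/
theorem concl [Finite G] (o : Out K t q z P) (sh : SheetON z v P E) (h : Nc (z : G) (P.map K.subtype) M) :
    (t ∈ M ∧ centralizer (M : Set G) ≤ zpowers (v : G)) ∨
      ∀ m ∈ M, ∀ c : G, (∀ x ∈ M, c * x = x * c) → t ≠ m * c := by
  by_cases hcase : ∃ m ∈ M, ∃ c : G, (∀ x ∈ M, c * x = x * c) ∧ t = m * c
  · left
    obtain ⟨m, hm, c, hc, htmc⟩ := hcase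
    have hct : c * t = t * c := by
      rw [htmc, ← mul_assoc, hc m hm]
    obtain ⟨u, hu, hcu⟩ := cent_Mt o sh h hc hct
    have huM : (u : G) ∈ M := by
      obtain ⟨n, rfl⟩ := mem_zpowers_iff.1 hu
      exact P_le_M h.JM (zpow_mem ((sh.Pv v).2 rfl) n)
    have htM : t ∈ M := by
      rw [htmc, hcu]; exact mul_mem hm huM
    refine ⟨htM, ?_⟩
    intro y hy
    have hyM : ∀ x ∈ M, y * x = x * y := fun x hx => (mem_centralizer_iff.1 hy x hx).symm
    obtain ⟨u', hu', hyu⟩ := cent_Mt o sh h hyM (hyM t htM)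
    rw [hyu]
    obtain ⟨n, rfl⟩ := mem_zpowers_iff.1 hu'
    exact ⟨n, rfl⟩
  · right
    push Not at hcase
    intro m hm c hc
    exact hcase m hm c hc

end Main

end Cfsg.Agent.OddHalf.D8.ON.Kill
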