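import Cfsg.Agent.OddHalf.CaseC.EndComp
import Cfsg.Agent.OddHalf.D8.ON.Kill
import Cfsg.Agent.KFacts.ON.Sheet

/-!
# ODD half, D8: the row `K = ON` (helper60)

`K = ON`, `P = C_K(z)^∞ ≅ 4.L₃(4)`: some component `M` of `C_G(z)` contains `P` (`CaseC.Hyp.main`), it is normal
(`Kill.normal`), and `Kill.concl` leads to one of the two cases of `CaseC.EndComp.main`.
-/

set_option autoImplicit false

namespace Cfsg.Agent.OddHalf.D8.ON.Row

open Subgroup Cfsg Cfsg.Agent.OddHalf.Front.FE Cfsg.Agent.OddHalf.D8.Sheet Cfsg.Agent.OddHalf.D8.GlueE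
  Cfsg.Agent.OddHalf.D8.Front Cfsg.Agent.OddHalf.D8.ON.Sheet Cfsg.Agent.OddHalf.D3
open Cfsg.Agent.OddHalf.Iface
open Cfsg.Agent.OddHalf.CaseM (toX mem_toX map_toX compOf_map)
open Cfsg.Agent.SignalizersComponents.Components

universe u

/-- a group with a sheet has no central 2-elements -/
theorem center_eq_bot {K : Type*} [Group K] [Finite K] {z v : K} {P E : Subgroup K}
    (sh : SheetON z v P E) (h2 : IsPGroup 2 ↥(center K)) : center K = ⊥ := by
  rw [eq_bot_iff]
  intro y hy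
  rw [mem_bot]
  obtain ⟨S, -, -, hcS⟩ := sh.basic.syl
  have h3 : (center K : Subgroup K) ≤ S := by
    have h4 : IsPGroup 2 ((center K ⊔ S : Subgroup K)) := h2.to_sup_of_normal_left S.isPGroup'
    have h5 := S.is_maximal' h4 le_sup_right
    exact (le_sup_left : center K ≤ center K ⊔ S).trans h5.le
  rcases hcS y (h3 hy) (fun x _ => mem_center_iff.1 hy x) with e | e
  · exact e
  · exfalso
    obtain ⟨-, -, x, -, -, hx, hx1, hxz, -⟩ := sh.rel
    obtain ⟨k, hk, -⟩ := sh.kk x hx hx1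
    apply hxz
    rw [← hk, ← e, mem_center_iff.1 hy k]
    group

variable {G : Type u} [Group G] {K : Subgroup G} {t q : G} {z v : K} {P E : Subgroup K}

/-- **the contradiction** -/
theorem false_of_out (C : Ctx G) (hSch : Cfsg.Agent.Schreier.Cases.SchFor.{u} @IsKnownSimple')
    (hGW : SylowSp4.Hyps.GW.{u}) (I : Intr2.{u}) (hS : CaseM.IntrSign.{u})
    (o : Out K t q z P) (sh : SheetON z v P E) : False := by
  have hfin := C.fin
  have hz := MainE.orderOf_z o.emb
  have h := CaseC.hyp o sh.qs (MainE.core_eq_bot C hz)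
  have htH : t ∈ centralizer ({(z : G)} : Set G) := mem_centralizer_singleton_iff.2 o.emb.comm
  have hvz : (v : G) * z = z * v := congrArg Subtype.val (Kill.z_v sh).symm
  -- no sign
  have hTR : ∀ f : ↥(centralizer ({(z : G)} : Set G)) →* ℤˣ, f ⟨t, htH⟩ ≠ -1 := by
    intro f hf
    have h1 : commutator ↥(centralizer ({(z : G)} : Set G)) ≤ f.ker := Abelianization.commutator_subset_ker f
    have h2 := h1 o.com
    rw [MonoidHom.mem_ker] at h2
    rw [h2] at hf
    exact absurd hf (by decide)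
  rcases h.main (fun M hM hn => CaseC.sch_le C hSch hz h.Pperf M hM hn) with ⟨f, hf⟩ | ⟨-, M, hM, hPM⟩
  · exact hTR f hf
  have hcomp : Comp (z : G) (M.map (centralizer ({(z : G)} : Set G)).subtype) := comp_map hM
  have hPM' : P.map K.subtype ≤ M.map (centralizer ({(z : G)} : Set G)).subtype := by
    rw [← map_toX (z := z) sh.basic.cen]
    exact map_mono hPM
  have hev : ∀ (y : G) (L : Subgroup G), orderOf y = 2 → Comp y L → 2 ∣ Nat.card L := fun y L hy hL =>
    CaseM.even_card C hy ⟨hL.le, hL.comp⟩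
  have hn : ∀ g : G, g * z = z * g →
      Cfsg.Agent.Cit.cj g (M.map (centralizer ({(z : G)} : Set G)).subtype) =
        M.map (centralizer ({(z : G)} : Set G)).subtype := fun g hg =>
    Kill.normal o sh C.bal hev hcomp hPM' hg
  have hMn : M.Normal := by
    refine ⟨fun m hm g => ?_⟩
    have hg : (g : G) * z = z * g := mem_centralizer_singleton_iff.1 g.2
    have h1 : (g : G) * m * (g : G)⁻¹ ∈ M.map (centralizer ({(z : G)} : Set G)).subtype := by
      rw [← hn g hg]
      exact Cfsg.Agent.Cit.conj_mem_cj ⟨m, hm, rfl⟩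
    obtain ⟨x, hx, hxe⟩ := h1
    have h2 : x = g * m * g⁻¹ := Subtype.ext hxe
    rwa [← h2]
  have hzM : (⟨z, mem_centralizer_singleton_iff.2 rfl⟩ : ↥(centralizer ({(z : G)} : Set G))) ∈ M :=
    hPM h.zP
  have nc : Kill.Nc (z : G) (P.map K.subtype) (M.map (centralizer ({(z : G)} : Set G)).subtype) :=
    ⟨hcomp, hPM', hn⟩
  have hcent : ∀ c : ↥(centralizer ({(z : G)} : Set G)),
      c ∈ centralizer (M : Set ↥(centralizer ({(z : G)} : Set G))) ↔
        ∀ x ∈ M.map (centralizer ({(z : G)} : Set G)).subtype, (c : G) * x = x * c := by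
    intro c
    rw [mem_centralizer_iff]
    constructor
    · rintro h1 _ ⟨x, hx, rfl⟩
      exact (congrArg Subtype.val (h1 x hx)).symm
    · intro h1 x hx
      exact Subtype.ext (h1 x ⟨x, hx, rfl⟩).symm
  refine CaseC.EndComp.main C hGW I hS hz hM hMn hzM (t := ⟨t, htH⟩)
    (y := ⟨v, mem_centralizer_singleton_iff.2 hvz⟩) (Subtype.ext o.emb.st.tt) hTR ?_
  rcases Kill.concl o sh nc with ⟨-, h1⟩ | h1
  · left
    intro c hc
    have h2 : (c : G) ∈ zpowers (v : G) := h1 (mem_centralizer_iff.2 fun x hx => ((hcent c).1 hc x hx).symm)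
    obtain ⟨n, hn⟩ := mem_zpowers_iff.1 h2
    exact mem_zpowers_iff.2 ⟨n, Subtype.ext hn⟩
  · right
    intro h2
    have hMc : ∀ x ∈ M, ∀ y ∈ centralizer (M : Set ↥(centralizer ({(z : G)} : Set G))), x * y = y * x :=
      fun x hx y hy => mem_centralizer_iff.1 hy x hx
    obtain ⟨m, hm, c, hc, hmc⟩ := Cfsg.Agent.Cit.Comp.mem_sup_comm hMc h2
    exact h1 m ⟨m, hm, rfl⟩ c ((hcent c).1 hc) (congrArg Subtype.val hmc).symm

/-- **the row of `ON`** -/
theorem row (hSch : Cfsg.Agent.Schreier.Cases.SchFor.{u} @IsKnownSimple')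
    (hGW : SylowSp4.Hyps.GW.{u}) (I : Intr2.{u}) (hS : CaseM.IntrSign.{u}) :
    Rows.Row.{u} (fun K _ => Spor.IsoON K) := by
  intro G _ C K S hcyc hK
  have hfin := C.fin
  obtain ⟨z, v, P, E, sh⟩ := KFacts.ON.Sheet.exists_sheet hK
  obtain ⟨t, q, st⟩ := exists_start C S hcyc (center_eq_bot sh S.z2)
  exact false_of_out C hSch hGW I hS (Front.FrontOuter.out_of_emb C ⟨st, sh.basic⟩) sh

end Cfsg.Agent.OddHalf.D8.ON.Row
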